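import Mathlib

/-!
Counting two-dimensional subspaces by ordered independent pairs.
-/

set_option autoImplicit false

namespace Cfsg.Agent.Lib.SubspaceTrans

open Module

variable {p : ℕ} [Fact p.Prime] {V : Type*} [AddCommGroup V] [Module (ZMod p) V] [Finite V]

/-- An ordered pair spanning a plane. -/
def IsPair (x : V × V) : Prop := x.1 ≠ 0 ∧ x.2 ∉ Submodule.span (ZMod p) ({x.1} : Set V)

theorem natCard_eq : Nat.card V = p ^ finrank (ZMod p) V := by
  rw [Module.natCard_eq_pow_finrank (K := ZMod p), Nat.card_zmod]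

theorem card_pairs : Nat.card {x : V × V // IsPair (p := p) x} =
    (p ^ finrank (ZMod p) V - 1) * (p ^ finrank (ZMod p) V - p) := by
  classical
  haveI : Fintype V := Fintype.ofFinite V
  have e : {x : V × V // IsPair (p := p) x} ≃
      Σ v : {v : V // v ≠ 0}, {w : V // w ∉ Submodule.span (ZMod p) ({(v : V)} : Set V)} :=
    { toFun := fun x => ⟨⟨x.1.1, x.2.1⟩, ⟨x.1.2, x.2.2⟩⟩
      invFun := fun s => ⟨(s.1, s.2), s.1.2, s.2.2⟩
      left_inv := fun _ => rfl
      right_inv := fun _ => rfl }
  have h1 : ∀ v : {v : V // v ≠ 0},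
      Nat.card {w : V // w ∉ Submodule.span (ZMod p) ({(v : V)} : Set V)} =
        p ^ finrank (ZMod p) V - p := by
    intro v
    rw [Nat.card_eq_fintype_card, Fintype.card_subtype_compl, ← Nat.card_eq_fintype_card,
      ← Nat.card_eq_fintype_card, natCard_eq (p := p), natCard_eq (p := p),
      finrank_span_singleton v.2, pow_one]
  rw [Nat.card_congr e, Nat.card_sigma, Finset.sum_congr rfl (fun v _ => h1 v), Finset.sum_const,
    smul_eq_mul, Finset.card_univ, Fintype.card_subtype_compl, Fintype.card_subtype_eq,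
    ← Nat.card_eq_fintype_card, natCard_eq (p := p)]

theorem finrank_span_pair {x : V × V} (hx : IsPair (p := p) x) :
    finrank (ZMod p) (Submodule.span (ZMod p) ({x.1, x.2} : Set V)) = 2 := by
  have h : LinearIndependent (ZMod p) ![x.1, x.2] := by
    rw [linearIndependent_fin2]
    refine ⟨?_, fun a ha => ?_⟩
    · simp only [Matrix.cons_val_one, Matrix.cons_val_zero]
      exact fun h0 => hx.2 (h0 ▸ zero_mem _)
    · simp only [Matrix.cons_val_one, Matrix.cons_val_zero] at ha
      rcases eq_or_ne a 0 with rfl | h0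
      · exact hx.1 (by simpa using ha.symm)
      · refine hx.2 (Submodule.mem_span_singleton.2 ⟨a⁻¹, ?_⟩)
        rw [← ha, smul_smul, inv_mul_cancel₀ h0, one_smul]
  have := finrank_span_eq_card h
  rw [Fintype.card_fin] at this
  rwa [Matrix.range_cons, Matrix.range_cons, Matrix.range_empty, Set.union_empty,
    Set.singleton_union] at this

/-- The planes. -/
abbrev Plane (p : ℕ) [Fact p.Prime] (V : Type*) [AddCommGroup V] [Module (ZMod p) V] :=
  {W : Submodule (ZMod p) V // finrank (ZMod p) W = 2}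

theorem mem_span_coe (W : Submodule (ZMod p) V) (a b : W) :
    (b : V) ∈ Submodule.span (ZMod p) ({(a : V)} : Set V) ↔
      b ∈ Submodule.span (ZMod p) ({a} : Set W) := by
  simp only [Submodule.mem_span_singleton, Subtype.ext_iff, Submodule.coe_smul]

/-- Pairs spanning a given plane. -/
theorem card_pairs_of_plane (W : Plane p V) :
    Nat.card {x : V × V // IsPair (p := p) x ∧
      Submodule.span (ZMod p) ({x.1, x.2} : Set V) = W.1} = (p ^ 2 - 1) * (p ^ 2 - p) := by
  have key := card_pairs (p := p) (V := (W.1 : Submodule (ZMod p) V))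
  rw [W.2] at key
  rw [← key]
  let g : {y : W.1 × W.1 // IsPair (p := p) y} →
      {x : V × V // IsPair (p := p) x ∧ Submodule.span (ZMod p) ({x.1, x.2} : Set V) = W.1} := fun y =>
    ⟨((y.1.1 : V), (y.1.2 : V)),
      ⟨fun h => y.2.1 (Subtype.ext h), fun h => y.2.2 ((mem_span_coe W.1 _ _).1 h)⟩, by
      refine Submodule.eq_of_le_of_finrank_eq ?_ ?_
      · refine Submodule.span_le.2 ?_
        rintro v (rfl | rfl)
        · exact y.1.1.2
        · exact y.1.2.2
      · rw [W.2]
        exact finrank_span_pair (x := ((y.1.1 : V), (y.1.2 : V)))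
          ⟨fun h => y.2.1 (Subtype.ext h), fun h => y.2.2 ((mem_span_coe W.1 _ _).1 h)⟩⟩
  refine (Nat.card_eq_of_bijective g ⟨fun y z e => ?_, fun x => ?_⟩).symm
  · obtain ⟨e1, e2⟩ := Prod.ext_iff.1 (congrArg Subtype.val e)
    exact Subtype.ext (Prod.ext (Subtype.ext e1) (Subtype.ext e2))
  · obtain ⟨⟨a, b⟩, hx, hs⟩ := x
    have ha : a ∈ W.1 := hs ▸ Submodule.subset_span (by simp)
    have hb : b ∈ W.1 := hs ▸ Submodule.subset_span (by simp)
    exact ⟨⟨(⟨a, ha⟩, ⟨b, hb⟩), fun h => hx.1 (congrArg Subtype.val h),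
      fun h => hx.2 ((mem_span_coe W.1 ⟨a, ha⟩ ⟨b, hb⟩).2 h)⟩, rfl⟩

theorem card_planes_mul :
    Nat.card (Plane p V) * ((p ^ 2 - 1) * (p ^ 2 - p)) =
      (p ^ finrank (ZMod p) V - 1) * (p ^ finrank (ZMod p) V - p) := by
  classical
  haveI : Finite (Submodule (ZMod p) V) :=
    Finite.of_injective (fun W : Submodule (ZMod p) V => (W : Set V)) SetLike.coe_injective
  haveI : Fintype (Plane p V) := Fintype.ofFinite _
  let f : {x : V × V // IsPair (p := p) x} → Plane p V := fun x =>
    ⟨Submodule.span (ZMod p) ({x.1.1, x.1.2} : Set V), finrank_span_pair x.2⟩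
  have hfib : ∀ W : Plane p V, Nat.card {x // f x = W} = (p ^ 2 - 1) * (p ^ 2 - p) := by
    intro W
    rw [← card_pairs_of_plane W]
    exact Nat.card_congr
      { toFun := fun x => ⟨x.1.1, x.1.2, congrArg Subtype.val x.2⟩
        invFun := fun y => ⟨⟨y.1, y.2.1⟩, Subtype.ext y.2.2⟩
        left_inv := fun _ => rfl
        right_inv := fun _ => rfl }
  have := card_pairs (p := p) (V := V)
  rw [← Nat.card_congr (Equiv.sigmaFiberEquiv f), Nat.card_sigma,
    Finset.sum_congr rfl (fun W _ => hfib W), Finset.sum_const, smul_eq_mul, Finset.card_univ,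
    ← Nat.card_eq_fintype_card] at this
  exact this

end Cfsg.Agent.Lib.SubspaceTrans
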