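import Mathlib
import Cfsg.Prelude.Def_Perm

/-!
Orders of the semiaffine group of a finite field and of its stabiliser of `0`.
-/

set_option autoImplicit false

namespace Cfsg.Agent.Lib.SubspaceTrans

variable {p n : ℕ} [Fact p.Prime]

theorem card_ringAut (hn : n ≠ 0) : Nat.card (GaloisField p n ≃+* GaloisField p n) = n := by
  have e : (GaloisField p n ≃+* GaloisField p n) ≃ (GaloisField p n ≃ₐ[ZMod p] GaloisField p n) :=
    { toFun := fun σ => AlgEquiv.ofRingEquiv (f := σ) fun c => RingHom.congr_fun
        (RingHom.ext_zmod (σ.toRingHom.comp (algebraMap (ZMod p) (GaloisField p n)))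
          (algebraMap (ZMod p) (GaloisField p n))) c
      invFun := fun σ => σ.toRingEquiv
      left_inv := fun σ => RingEquiv.ext fun _ => rfl
      right_inv := fun σ => AlgEquiv.ext fun _ => rfl }
  rw [Nat.card_congr e, IsGalois.card_aut_eq_finrank, GaloisField.finrank p hn]

/-- Semilinear permutations. -/
noncomputable def gammaL (F : Type*) [Ring F] : Subgroup (Equiv.Perm F) :=
  Cfsg.semiaffineGroup F ⊓ MulAction.stabilizer (Equiv.Perm F) (0 : F)

theorem card_gammaL_le (hn : n ≠ 0) :
    Nat.card (gammaL (GaloisField p n)) = (p ^ n - 1) * n := by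
  classical
  haveI : Finite (GaloisField p n ≃+* GaloisField p n) :=
    Finite.of_injective (fun σ => (σ : GaloisField p n → GaloisField p n)) DFunLike.coe_injective
  let f : (GaloisField p n)ˣ × (GaloisField p n ≃+* GaloisField p n) → gammaL (GaloisField p n) :=
    fun aσ => ⟨aσ.2.toEquiv.trans (Units.mulLeft aσ.1),
      ⟨aσ.1, 0, aσ.2, fun x => (add_zero _).symm⟩,
      MulAction.mem_stabilizer_iff.2 (show (aσ.1 : GaloisField p n) * aσ.2 0 = 0 by
        rw [map_zero, mul_zero])⟩
  have hf : Function.Bijective f := by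
    constructor
    · rintro ⟨a, σ⟩ ⟨b, τ⟩ e
      have e' : ∀ x, (a : GaloisField p n) * σ x = b * τ x := fun x =>
        congrArg (fun g : gammaL (GaloisField p n) => (g : Equiv.Perm (GaloisField p n)) x) e
      have h1 := e' 1
      rw [map_one, map_one, mul_one, mul_one] at h1
      obtain rfl : a = b := Units.ext h1
      obtain rfl : σ = τ := RingEquiv.ext fun x => mul_left_cancel₀ a.ne_zero (e' x)
      rfl
    · rintro ⟨g, ⟨a, b, σ, hg⟩, h0⟩
      have hb : b = 0 := by
        have := hg 0
        rw [σ.map_zero, mul_zero, zero_add, show g 0 = 0 from MulAction.mem_stabilizer_iff.1 h0] at this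
        exact this.symm
      exact ⟨(a, σ), Subtype.ext (Equiv.ext fun x => by rw [hg, hb, add_zero]; rfl)⟩
  rw [← Nat.card_eq_of_bijective f hf, Nat.card_prod, card_ringAut hn, Nat.card_units,
    GaloisField.card p n hn]

theorem card_semiaffine_le (hn : n ≠ 0) :
    Nat.card (Cfsg.semiaffineGroup (GaloisField p n)) ≤ p ^ n * ((p ^ n - 1) * n) := by
  haveI : Finite (GaloisField p n ≃+* GaloisField p n) :=
    Finite.of_injective (fun σ => (σ : GaloisField p n → GaloisField p n)) DFunLike.coe_injective
  let f : GaloisField p n × (GaloisField p n)ˣ × (GaloisField p n ≃+* GaloisField p n) →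
      Cfsg.semiaffineGroup (GaloisField p n) := fun t =>
    ⟨(t.2.2.toEquiv.trans (Units.mulLeft t.2.1)).trans (Equiv.addRight t.1),
      t.2.1, t.1, t.2.2, fun x => rfl⟩
  have hf : Function.Surjective f := by
    rintro ⟨g, a, b, σ, hg⟩
    exact ⟨(b, a, σ), Subtype.ext (Equiv.ext fun x => (hg x).symm)⟩
  refine (Nat.card_le_card_of_surjective f hf).trans ?_
  rw [Nat.card_prod, Nat.card_prod, card_ringAut hn, Nat.card_units, GaloisField.card p n hn]

theorem card_affine_le (hn : n ≠ 0) :
    Nat.card (Cfsg.affineGroup (GaloisField p n)) ≤ p ^ n * (p ^ n - 1) := by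
  let f : GaloisField p n × (GaloisField p n)ˣ → Cfsg.affineGroup (GaloisField p n) := fun t =>
    ⟨(Units.mulLeft t.2).trans (Equiv.addRight t.1), t.2, t.1, fun x => rfl⟩
  have hf : Function.Surjective f := by
    rintro ⟨g, a, b, hg⟩
    exact ⟨(b, a), Subtype.ext (Equiv.ext fun x => (hg x).symm)⟩
  refine (Nat.card_le_card_of_surjective f hf).trans ?_
  rw [Nat.card_prod, Nat.card_units, GaloisField.card p n hn]

end Cfsg.Agent.Lib.SubspaceTrans
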