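import Cfsg.Agent.Lib.SubspaceTrans.Main

/-!
The linear group induced on an elementary abelian group.
-/

set_option autoImplicit false

namespace Cfsg.Agent.Lib.SubspaceTrans

/-- The linear group on an elementary abelian group. -/
theorem linear_part {A : Type*} [CommGroup A] [Finite A] {p : ℕ} [Fact p.Prime]
    (hexp : ∀ a : A, a ^ p = 1) (n : ℕ) (hn : 3 ≤ n) (hcard : Nat.card A = p ^ n)
    {L : Type*} [Group L] [Finite L] (hLsol : Group.IsSolvable L) (φ : L →* MulAut A)
    (hφ : Function.Injective φ)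
    (ht : ∀ U W : Subgroup A, Nat.card U = Nat.card W → ∃ l, W = U.map (φ l).toMonoidHom) :
    (n = 3 ∨ (n = 5 ∧ p = 2 ∧ 155 ≤ Nat.card L)) ∧
    (p = 2 → n = 3 → Nat.card L = 7 ∨ Nat.card L = 21) ∧
    ∃ e : Additive A ≃+ GaloisField p n, ∀ l, ∃ (c : GaloisField p n) (σ : GaloisField p n ≃+* GaloisField p n),
      c ≠ 0 ∧ ∀ a : A, e (Additive.ofMul (φ l a)) = c * σ (e (Additive.ofMul a)) := by
  haveI : Module (ZMod p) (Additive A) := AddCommGroup.zmodModule (show ∀ x : Additive A, p • x = 0 from fun x => hexp x.toMul)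
  let ρ : L →* (Additive A ≃ₗ[ZMod p] Additive A) :=
    { toFun := fun l =>
        { toFun := fun x => Additive.ofMul (φ l x.toMul)
          invFun := fun x => Additive.ofMul ((φ l).symm x.toMul)
          map_add' := fun x y => congrArg Additive.ofMul (map_mul (φ l) x.toMul y.toMul)
          map_smul' := fun c x => ZMod.map_smul (MulEquiv.toAdditive (φ l)).toAddMonoidHom c x
          left_inv := fun x => congrArg Additive.ofMul ((φ l).symm_apply_apply x.toMul)
          right_inv := fun x => congrArg Additive.ofMul ((φ l).apply_symm_apply x.toMul) }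
      map_one' := LinearEquiv.ext fun x => by
        show Additive.ofMul (φ 1 x.toMul) = x
        rw [map_one]; rfl
      map_mul' := fun l l' => LinearEquiv.ext fun x => by
        show Additive.ofMul (φ (l * l') x.toMul) = Additive.ofMul (φ l (φ l' x.toMul))
        rw [map_mul]; rfl }
  have hρ : Function.Injective ρ := fun l l' e => hφ (MulEquiv.ext fun a =>
    congrArg Additive.toMul (LinearEquiv.congr_fun e (Additive.ofMul a)))
  have hdim : Module.finrank (ZMod p) (Additive A) = n := by
    have h1 : Nat.card (Additive A) = p ^ n := hcard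
    rw [natCard_eq (p := p)] at h1
    exact Nat.pow_right_injective (Fact.out : p.Prime).two_le h1
  have ht' : ∀ W W' : Submodule (ZMod p) (Additive A),
      Module.finrank (ZMod p) ↥W = Module.finrank (ZMod p) ↥W' →
      ∃ l, W.map (ρ l).toLinearMap = W' := by
    intro W W' hWW
    obtain ⟨l, hl⟩ := ht W.toAddSubgroup.toSubgroup' W'.toAddSubgroup.toSubgroup' (by
      show Nat.card W = Nat.card W'
      rw [natCard_eq (p := p) (V := W), natCard_eq (p := p) (V := W'), hWW])
    refine ⟨l, Submodule.eq_of_le_of_finrank_eq ?_ (by rw [LinearEquiv.finrank_map_eq, hWW])⟩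
    rintro _ ⟨v, hv, rfl⟩
    show φ l v.toMul ∈ W'.toAddSubgroup.toSubgroup'
    rw [hl]
    exact ⟨v.toMul, hv, rfl⟩
  obtain ⟨h1, h2, e, he⟩ := semilinear_of_transitive hdim hn hLsol ρ hρ ht'
  exact ⟨h1, h2, e, fun l => by
    obtain ⟨c, σ, hc, hσ⟩ := he l
    exact ⟨c, σ, hc, fun a => hσ (Additive.ofMul a)⟩⟩

end Cfsg.Agent.Lib.SubspaceTrans
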