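import Cfsg.Agent.Lib.SubspaceTrans.Count
import Cfsg.Agent.Lib.SubspaceTrans.FieldCard
import Cfsg.Agent.S3360
import Cfsg.Agent.Lib.Hall.Solvable

/-!
Solvable linear groups transitive on lines and on planes in dimension at least three.
-/

set_option autoImplicit false

namespace Cfsg.Agent.Lib.SubspaceTrans

open Module

theorem arith {p n : ℕ} (hp : p.Prime) (hn : 5 ≤ n)
    (h : p ^ (n - 1) - 1 ≤ n * (p ^ 2 - 1)) : n = 5 ∧ p = 2 := by
  obtain ⟨k, rfl⟩ : ∃ k, n = k + 5 := ⟨n - 5, by omega⟩
  rw [show k + 5 - 1 = k + 4 by omega] at h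
  rcases Nat.lt_or_ge 2 p with h2 | h2
  · exfalso
    have key : ∀ j : ℕ, j + 7 ≤ p ^ (j + 2) := by
      intro j
      induction j with
      | zero => simp only [zero_add]; nlinarith
      | succ j ih =>
        rw [show j + 1 + 2 = j + 2 + 1 by omega, pow_succ]
        nlinarith
    have h1 := key k
    rw [show k + 4 = k + 2 + 2 by omega, pow_add p (k + 2) 2] at h
    have h3 : 9 ≤ p ^ 2 := by nlinarith
    have h4 : (k + 7) * p ^ 2 ≤ p ^ (k + 2) * p ^ 2 := Nat.mul_le_mul_right _ h1
    have h5 : (k + 5) * (p ^ 2 - 1) ≤ (k + 5) * p ^ 2 := Nat.mul_le_mul_left _ (Nat.sub_le _ _)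
    have h6 : (k + 7) * p ^ 2 = (k + 5) * p ^ 2 + 2 * p ^ 2 := by ring
    omega
  · obtain rfl : p = 2 := le_antisymm h2 hp.two_le
    rcases Nat.eq_zero_or_pos k with rfl | hk
    · exact ⟨rfl, rfl⟩
    exfalso
    have key : ∀ j : ℕ, 3 * j + 23 ≤ 2 ^ (j + 5) := by
      intro j
      induction j with
      | zero => norm_num
      | succ j ih =>
        rw [show j + 1 + 5 = j + 5 + 1 by omega, pow_succ]
        omega
    have h1 := key (k - 1)
    rw [show k - 1 + 5 = k + 4 by omega] at h1
    norm_num at h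
    omega

variable {p : ℕ} [Fact p.Prime] {V : Type*} [AddCommGroup V] [Module (ZMod p) V] [Finite V]

/-- Scalar automorphisms. -/
noncomputable def sc : (ZMod p)ˣ →* (V ≃ₗ[ZMod p] V) where
  toFun c := LinearEquiv.smulOfUnit c
  map_one' := LinearEquiv.ext fun v => by
    show ((1 : (ZMod p)ˣ) : ZMod p) • v = v
    rw [Units.val_one, one_smul]
  map_mul' a b := LinearEquiv.ext fun v => by
    show ((a * b : (ZMod p)ˣ) : ZMod p) • v = (a : ZMod p) • (b : ZMod p) • v
    rw [Units.val_mul, mul_smul]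

theorem sc_apply (c : (ZMod p)ˣ) (v : V) : sc c v = (c : ZMod p) • v := rfl

theorem map_sc (c : (ZMod p)ˣ) (W : Submodule (ZMod p) V) :
    W.map (sc c : V ≃ₗ[ZMod p] V).toLinearMap = W := by
  refine le_antisymm ?_ fun w hw => ⟨(c⁻¹ : (ZMod p)ˣ) • w, W.smul_mem _ hw, ?_⟩
  · rintro _ ⟨w, hw, rfl⟩
    exact W.smul_mem _ hw
  · show (c : ZMod p) • ((c⁻¹ : (ZMod p)ˣ) : ZMod p) • w = w
    rw [smul_smul, Units.mul_inv, one_smul]

/-- An orbit equation for planes. -/
theorem card_planes_mul_stab {L : Type*} [Group L] [Finite L] (ρ : L →* (V ≃ₗ[ZMod p] V))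
    (W0 : Plane p V) (ht : ∀ W : Plane p V, ∃ l, W0.1.map (ρ l).toLinearMap = W.1) :
    ∃ S : Subgroup L, (∀ l, W0.1.map (ρ l).toLinearMap = W0.1 → l ∈ S) ∧
      Nat.card (Plane p V) * Nat.card S = Nat.card L := by
  letI : MulAction L (Submodule (ZMod p) V) :=
    { smul := fun l W => W.map (ρ l).toLinearMap
      one_smul := fun W => by
        show W.map (ρ 1).toLinearMap = W
        rw [map_one]
        exact Submodule.map_id W
      mul_smul := fun a b W => by
        show W.map (ρ (a * b)).toLinearMap = (W.map (ρ b).toLinearMap).map (ρ a).toLinearMap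
        rw [map_mul, ← Submodule.map_comp]
        rfl }
  have horb : MulAction.orbit L W0.1 = {W : Submodule (ZMod p) V | finrank (ZMod p) W = 2} := by
    ext W
    constructor
    · rintro ⟨l, rfl⟩
      show finrank (ZMod p) (W0.1.map (ρ l).toLinearMap : Submodule (ZMod p) V) = 2
      rw [LinearEquiv.finrank_map_eq, W0.2]
    · intro hW
      exact ht ⟨W, hW⟩
  refine ⟨MulAction.stabilizer L W0.1, fun l hl => hl, ?_⟩
  have : (MulAction.stabilizer L W0.1).index = Nat.card (Plane p V) := by
    rw [MulAction.index_stabilizer, horb]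
    rfl
  rw [← this, mul_comm]
  exact Subgroup.card_mul_index _

omit [Fact p.Prime] [Module (ZMod p) V] in
theorem card_modEq_fixed {r : ℕ} [Fact r.Prime] {A : Type*} [Group A] (hA : IsPGroup r A)
    [MulAction A V] : Nat.card V ≡ Nat.card (MulAction.fixedPoints A V) [MOD r] :=
  hA.card_modEq_card_fixedPoints V

set_option maxHeartbeats 1000000 in
/-- No solvable subgroup of order divisible by `5` and `13` in `GL(4, 3)`. -/
theorem no_five_thirteen {V : Type*} [AddCommGroup V] [Module (ZMod 3) V] [Finite V]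
    (hV : Nat.card V = 81) (M : Subgroup (V ≃ₗ[ZMod 3] V)) (hM : Group.IsSolvable M)
    (h5 : 5 ∣ Nat.card M) (h13 : 13 ∣ Nat.card M) : False := by
  haveI := hM
  haveI : Fact (Nat.Prime 5) := ⟨by norm_num⟩
  haveI : Fact (Nat.Prime 13) := ⟨by norm_num⟩
  haveI : Fact (Nat.Prime 3) := ⟨by norm_num⟩
  haveI : Finite (V ≃ₗ[ZMod 3] V) := Finite.of_injective (fun g => (g : V → V)) DFunLike.coe_injective
  -- the fixed space of a linear map
  have hfix : ∀ g : V ≃ₗ[ZMod 3] V, ∃ k ≤ 4, Nat.card {v : V | g v = v} = 3 ^ k := by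
    intro g
    let U : Submodule (ZMod 3) V :=
      { carrier := {v | g v = v}
        zero_mem' := map_zero g
        add_mem' := fun {a b} ha hb => by
          show g (a + b) = a + b
          rw [map_add, ha, hb]
        smul_mem' := fun c a ha => by
          show g (c • a) = c • a
          rw [map_smul, ha] }
    refine ⟨finrank (ZMod 3) U, ?_, natCard_eq (p := 3) (V := U)⟩
    refine (Submodule.finrank_le U).trans ?_
    have := natCard_eq (p := 3) (V := V)
    rw [hV, show (81 : ℕ) = 3 ^ 4 by norm_num] at this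
    exact (Nat.pow_right_injective (le_refl 2 |>.trans (by norm_num)) this).ge
  have hmod : ∀ (r : ℕ) [Fact r.Prime] (g : V ≃ₗ[ZMod 3] V), (∃ j, orderOf g = r ^ j) →
      81 ≡ Nat.card {v : V | g v = v} [MOD r] := by
    intro r _ g ⟨j, hj⟩
    have hA : IsPGroup r (Subgroup.zpowers g) :=
      IsPGroup.of_card (n := j) (by rw [Nat.card_zpowers, hj])
    letI : MulAction (Subgroup.zpowers g) V := MulAction.compHom V (Subgroup.zpowers g).subtype
    have := hA.card_modEq_card_fixedPoints V
    rw [hV] at this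
    have e : {v : V | g v = v} = MulAction.fixedPoints (Subgroup.zpowers g) V :=
      Set.ext fun v => ⟨fun hv a => ?_, fun hv => hv ⟨g, Subgroup.mem_zpowers g⟩⟩
    · rw [e]
      exact this
    show (a : V ≃ₗ[ZMod 3] V) v = v
    exact (Subgroup.zpowers_le.2 (show g ∈ MulAction.stabilizer (V ≃ₗ[ZMod 3] V) v from hv) a.2 : _)
  -- elements of order five fix only `0`
  have hfive : ∀ y : V ≃ₗ[ZMod 3] V, orderOf y = 5 → ∀ v, y v = v → v = 0 := by
    intro y hy v hv
    have h1 := hmod 5 y ⟨1, by rw [hy, pow_one]⟩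
    obtain ⟨k, hk4, hk⟩ := hfix y
    rw [hk] at h1
    have hk' : k = 0 ∨ k = 4 := by
      interval_cases k <;> simp_all [Nat.ModEq]
    rcases hk' with rfl | rfl
    · rw [pow_zero, Nat.card_eq_one_iff_unique] at hk
      exact congrArg Subtype.val (hk.1.elim ⟨v, hv⟩ ⟨0, map_zero y⟩)
    · exfalso
      have huniv : {v : V | y v = v} = Set.univ := by
        refine Set.eq_of_subset_of_ncard_le (Set.subset_univ _) ?_ (Set.toFinite _)
        rw [Set.ncard_univ, hV, ← Nat.card_coe_set_eq, hk]
        norm_num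
      have : y = 1 := LinearEquiv.ext fun w => (huniv.symm ▸ Set.mem_univ w : w ∈ {v : V | y v = v})
      rw [this, orderOf_one] at hy
      norm_num at hy
  -- fixed spaces of elements of order thirteen
  have hthirteen : ∀ x : V ≃ₗ[ZMod 3] V, (∃ j, orderOf x = 13 ^ j) → x ≠ 1 →
      Nat.card {v : V | x v = v} = 3 := by
    intro x hx hne
    have h1 := hmod 13 x hx
    obtain ⟨k, hk4, hk⟩ := hfix x
    rw [hk] at h1 ⊢
    have hk' : k = 1 ∨ k = 4 := by
      interval_cases k <;> simp_all [Nat.ModEq]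
    rcases hk' with rfl | rfl
    · norm_num
    · exfalso
      have huniv : {v : V | x v = v} = Set.univ := by
        refine Set.eq_of_subset_of_ncard_le (Set.subset_univ _) ?_ (Set.toFinite _)
        rw [Set.ncard_univ, hV, ← Nat.card_coe_set_eq, hk]
        norm_num
      exact hne (LinearEquiv.ext fun w => (huniv.symm ▸ Set.mem_univ w : w ∈ {v : V | x v = v}))
  -- a Hall subgroup
  obtain ⟨H, hH⟩ := Hall.exists_isPiHall (G := M) ({5, 13} : Set ℕ)
  obtain ⟨hHc, hHi⟩ := (Hall.isPiHall_iff H).1 hH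
  have hdvd : ∀ r : ℕ, r.Prime → r ∈ ({5, 13} : Set ℕ) → r ∣ Nat.card M → r ∣ Nat.card H := by
    intro r hr hmem hd
    rw [← Subgroup.card_mul_index H] at hd
    refine (hr.dvd_mul.1 hd).resolve_right fun hi => ?_
    exact hHi r hr hi hmem
  obtain ⟨y, hy⟩ := exists_prime_orderOf_dvd_card' (G := H) 5 (hdvd 5 (by norm_num) (by simp) h5)
  obtain ⟨x, hx⟩ := exists_prime_orderOf_dvd_card' (G := H) 13 (hdvd 13 (by norm_num) (by simp) h13)
  let ι : H →* (V ≃ₗ[ZMod 3] V) := M.subtype.comp H.subtype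
  have hι : Function.Injective ι := Subtype.val_injective.comp Subtype.val_injective
  have hord : ∀ h : H, orderOf (ι h) = orderOf h := fun h => orderOf_injective ι hι h
  have hynz : ∀ v, ι y v = v → v = 0 := hfive _ ((hord y).trans hy)
  -- a nontrivial normal `r`-subgroup
  obtain ⟨r, hr, A, hAn, hAne, hAp⟩ : ∃ r, r.Prime ∧ ∃ A : Subgroup H, A.Normal ∧ A ≠ ⊥ ∧ IsPGroup r A := by
    haveI : Nontrivial H := ⟨x, 1, fun e => by rw [e, orderOf_one] at hx; norm_num at hx⟩
    haveI : Group.IsSolvable H := solvable_of_solvable_injective (f := H.subtype) H.subtype_injective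
    obtain ⟨A0, hA0, hA0ne, hA0c⟩ : ∃ A0 : Subgroup H, A0.Normal ∧ A0 ≠ ⊥ ∧ IsMulCommutative A0 := by
      obtain ⟨k, hk⟩ := (isSolvable_def H).1 inferInstance
      classical
      have hex : ∃ j, derivedSeries H j = ⊥ := ⟨k, hk⟩
      obtain ⟨j, hj⟩ : ∃ j, Nat.find hex = j + 1 := by
        refine ⟨Nat.find hex - 1, ?_⟩
        have : Nat.find hex ≠ 0 := fun e => by
          have := Nat.find_spec hex
          rw [e, derivedSeries_zero] at this
          exact top_ne_bot this
        omega
      refine ⟨derivedSeries H j, derivedSeries_normal H j, Nat.find_min hex (by omega), ?_⟩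
      rw [← Subgroup.le_centralizer_iff_isMulCommutative, ← Subgroup.commutator_eq_bot_iff_le_centralizer]
      have := Nat.find_spec hex
      rwa [hj, derivedSeries_succ] at this
    obtain ⟨r, hr, hrd⟩ := Nat.exists_prime_and_dvd
      (show Nat.card A0 ≠ 1 from fun e => hA0ne (Subgroup.eq_bot_of_card_eq A0 e))
    haveI := Fact.mk hr
    haveI := hA0
    let S : Sylow r A0 := default
    haveI : (S : Subgroup A0).Normal :=
      ⟨fun a ha g => by
        have : g * a * g⁻¹ = a := by
          rw [hA0c.is_comm.comm g a, mul_inv_cancel_right]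
        rwa [this]⟩
    haveI : (S : Subgroup A0).Characteristic := S.characteristic_of_normal inferInstance
    refine ⟨r, hr, (S : Subgroup A0).map A0.subtype, inferInstance, ?_, S.isPGroup'.map _⟩
    rw [Ne, Subgroup.map_eq_bot_iff_of_injective _ A0.subtype_injective]
    exact S.ne_bot_of_dvd_card hrd
  haveI := Fact.mk hr
  haveI := hAn
  obtain ⟨⟨a, ha⟩, ha'⟩ := Subgroup.ne_bot_iff_exists_ne_one.1 hAne
  have ha1 : a ≠ 1 := fun e => ha' (Subtype.ext e)
  obtain ⟨j, hj⟩ := IsPGroup.iff_orderOf.1 hAp ⟨a, ha⟩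
  rw [Subgroup.orderOf_mk] at hj
  have hr' : r = 5 ∨ r = 13 := by
    have hj0 : j ≠ 0 := by
      rintro rfl
      rw [pow_zero, orderOf_eq_one_iff] at hj
      exact ha1 hj
    exact hHc r hr ((dvd_pow_self r hj0).trans (hj ▸ orderOf_dvd_natCard a))
  letI : MulAction A V := MulAction.compHom V (ι.comp A.subtype)
  have hinv : ∀ (h : H) (v : V), v ∈ MulAction.fixedPoints A V → ι h v ∈ MulAction.fixedPoints A V := by
    intro h v hv b
    have := hv ⟨h⁻¹ * b * h⁻¹⁻¹, hAn.conj_mem _ b.2 _⟩
    change ι (h⁻¹ * b * h⁻¹⁻¹) v = v at this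
    show ι b (ι h v) = ι h v
    conv_rhs => rw [← this]
    rw [← LinearEquiv.mul_apply, ← LinearEquiv.mul_apply, ← map_mul, ← map_mul]
    congr 2
    group
  rcases hr' with rfl | rfl
  · -- the five-group acts semiregularly
    have hsr : ∀ b : A, b ≠ 1 → ∀ v, ι b v = v → v = 0 := by
      intro b hb v hv
      obtain ⟨i, hi⟩ := IsPGroup.iff_orderOf.1 hAp b
      rcases i with _ | i
      · rw [pow_zero, orderOf_eq_one_iff] at hi
        exact absurd hi hb
      · refine hfive (ι (b ^ 5 ^ i : A)) ?_ v ?_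
        · rw [hord, Subgroup.orderOf_coe, orderOf_pow_of_dvd (pow_ne_zero _ (by norm_num))
            (hi ▸ pow_dvd_pow 5 (Nat.le_succ i)), hi, pow_succ, Nat.mul_div_cancel_left _ (by positivity)]
        · rw [Subgroup.coe_pow, map_pow]
          have : ∀ k : ℕ, ((ι (b : H)) ^ k) v = v := by
            intro k
            induction k with
            | zero => rfl
            | succ k ih => rw [pow_succ, LinearEquiv.mul_apply, hv, ih]
          exact this _
    obtain ⟨v, hv⟩ : ∃ v : V, v ≠ 0 := by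
      by_contra hcon
      push Not at hcon
      have : Subsingleton V := ⟨fun a b => (hcon a).trans (hcon b).symm⟩
      rw [Nat.card_of_subsingleton (0 : V)] at hV
      norm_num at hV
    have hle : Nat.card A ≤ 81 := hV ▸ Nat.card_le_card_of_injective (fun b : A => ι b v) (fun b c e => by
      by_contra hne
      refine hv (hsr (c⁻¹ * b) (fun e' => hne (inv_mul_eq_one.1 e').symm) v ?_)
      change ι (b : H) v = ι (c : H) v at e
      rw [Subgroup.coe_mul, map_mul, LinearEquiv.mul_apply, e, ← LinearEquiv.mul_apply, ← map_mul,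
        ← Subgroup.coe_mul, inv_mul_cancel, Subgroup.coe_one, map_one]
      rfl)
    obtain ⟨i, hi⟩ := IsPGroup.iff_card.1 hAp
    have hi2 : i ≤ 2 := by
      by_contra h3
      have : 5 ^ 3 ≤ 5 ^ i := Nat.pow_le_pow_right (by norm_num) (by omega)
      rw [hi] at hle
      omega
    -- the element of order thirteen centralises it
    have hxp : IsPGroup 13 (Subgroup.zpowers x) :=
      IsPGroup.of_card (n := 1) (by rw [Nat.card_zpowers, hx, pow_one])
    letI : MulAction (Subgroup.zpowers x) A :=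
      MulAction.compHom A ((MulAut.conjNormal : H →* MulAut A).comp (Subgroup.zpowers x).subtype)
    have hA2 := hxp.card_modEq_card_fixedPoints A
    have hfle : Nat.card (MulAction.fixedPoints (Subgroup.zpowers x) A) ∣ Nat.card A := by
      let U : Subgroup A :=
        { carrier := MulAction.fixedPoints (Subgroup.zpowers x) A
          one_mem' := fun g => map_one (MulAut.conjNormal (g : H))
          mul_mem' := fun {b c} hb hc g =>
            (map_mul (MulAut.conjNormal (g : H)) b c).trans (congrArg₂ (· * ·) (hb g) (hc g))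
          inv_mem' := fun {b} hb g =>
            (map_inv (MulAut.conjNormal (g : H)) b).trans (congrArg (·⁻¹) (hb g)) }
      exact Subgroup.card_subgroup_dvd_card U
    have hall : MulAction.fixedPoints (Subgroup.zpowers x) A = Set.univ := by
      refine Set.eq_of_subset_of_ncard_le (Set.subset_univ _) ?_ (Set.toFinite _)
      rw [Set.ncard_univ, ← Nat.card_coe_set_eq, hi]
      rw [hi] at hA2 hfle
      obtain ⟨l, hl, hl'⟩ := (Nat.dvd_prime_pow (by norm_num)).1 hfle
      rw [hl'] at hA2 ⊢
      interval_cases i <;> interval_cases l <;> norm_num [Nat.ModEq] at hA2 <;> norm_num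
    obtain ⟨b, hb5⟩ : ∃ b : A, b ≠ 1 := ⟨⟨a, ha⟩, fun e => ha1 (congrArg Subtype.val e)⟩
    have hcomm : x * (b : H) * x⁻¹ = b := by
      have : b ∈ MulAction.fixedPoints (Subgroup.zpowers x) A := hall ▸ Set.mem_univ b
      exact congrArg Subtype.val (this ⟨x, Subgroup.mem_zpowers x⟩)
    have hxne : ι x ≠ 1 := fun e => by
      have := hord x
      rw [e, orderOf_one, hx] at this
      norm_num at this
    have hU := hthirteen (ι x) ⟨1, by rw [hord, hx, pow_one]⟩ hxne
    letI : MulAction (Subgroup.zpowers b) {v : V | ι x v = v} :=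
      { smul := fun c v => ⟨ι (c : A) v, by
          obtain ⟨i, hi⟩ := c.2
          have hc : Commute x ((c : A) : H) := by
            rw [← hi, SubgroupClass.coe_zpow]
            exact Commute.zpow_right (mul_inv_eq_iff_eq_mul.1 hcomm) i
          show ι x (ι (c : A) v) = ι (c : A) v
          rw [← LinearEquiv.mul_apply, ← map_mul, hc.eq, map_mul, LinearEquiv.mul_apply]
          exact congrArg _ v.2⟩
        one_smul := fun v => Subtype.ext (by
          show ι ((1 : A) : H) v = v
          rw [Subgroup.coe_one, map_one]; rfl)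
        mul_smul := fun c d v => Subtype.ext (by
          show ι (((c * d : Subgroup.zpowers b) : A) : H) v = ι (c : A) (ι (d : A) v)
          rw [Subgroup.coe_mul, Subgroup.coe_mul, map_mul]; rfl) }
    have hB : IsPGroup 5 (Subgroup.zpowers b) := hAp.to_subgroup _
    have hB2 := hB.card_modEq_card_fixedPoints {v : V | ι x v = v}
    rw [hU] at hB2
    have : Nat.card (MulAction.fixedPoints (Subgroup.zpowers b) {v : V | ι x v = v}) ≤ 1 := by
      rw [Finite.card_le_one_iff_subsingleton]
      have : ∀ w : MulAction.fixedPoints (Subgroup.zpowers b) {v : V | ι x v = v}, (w.1 : V) = 0 :=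
        fun w => hsr b hb5 _ (congrArg Subtype.val (w.2 ⟨b, Subgroup.mem_zpowers b⟩))
      exact ⟨fun u w => Subtype.ext (Subtype.ext ((this u).trans (this w).symm))⟩
    rcases Nat.le_one_iff_eq_zero_or_eq_one.1 this with h0 | h0 <;> rw [h0] at hB2 <;>
      simp [Nat.ModEq] at hB2
  · -- a thirteen-group has a fixed line
    have hA2 := hAp.card_modEq_card_fixedPoints V
    rw [hV] at hA2
    have hsub : MulAction.fixedPoints A V ⊆ {v : V | ι a v = v} := fun v hv => hv ⟨a, ha⟩
    have hU := hthirteen (ι a) ⟨j, by rw [hord]; exact hj⟩ (fun e => ha1 (hι (e.trans (map_one ι).symm)))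
    have hle3 : Nat.card (MulAction.fixedPoints A V) ≤ 3 := (Nat.card_mono (Set.toFinite _) hsub).trans hU.le
    have h3 : Nat.card (MulAction.fixedPoints A V) = 3 := by
      rw [Nat.ModEq] at hA2
      omega
    letI : MulAction (Subgroup.zpowers y) (MulAction.fixedPoints A V) :=
      { smul := fun c v => ⟨ι c v, hinv c v v.2⟩
        one_smul := fun v => Subtype.ext (by
          show ι ((1 : Subgroup.zpowers y) : H) v = v
          rw [Subgroup.coe_one, map_one]; rfl)
        mul_smul := fun c d v => Subtype.ext (by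
          show ι ((c * d : Subgroup.zpowers y) : H) v = ι c (ι d v)
          rw [Subgroup.coe_mul, map_mul]; rfl) }
    have hB : IsPGroup 5 (Subgroup.zpowers y) :=
      IsPGroup.of_card (n := 1) (by rw [Nat.card_zpowers, hy, pow_one])
    have hB2 := hB.card_modEq_card_fixedPoints (MulAction.fixedPoints A V)
    rw [h3] at hB2
    have : Nat.card (MulAction.fixedPoints (Subgroup.zpowers y) (MulAction.fixedPoints A V)) ≤ 1 := by
      rw [Finite.card_le_one_iff_subsingleton]
      have : ∀ w : MulAction.fixedPoints (Subgroup.zpowers y) (MulAction.fixedPoints A V), (w.1 : V) = 0 :=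
        fun w => hynz _ (congrArg Subtype.val (w.2 ⟨y, Subgroup.mem_zpowers y⟩))
      exact ⟨fun u w => Subtype.ext (Subtype.ext ((this u).trans (this w).symm))⟩
    rcases Nat.le_one_iff_eq_zero_or_eq_one.1 this with h0 | h0 <;> rw [h0] at hB2 <;>
      simp [Nat.ModEq] at hB2

set_option maxHeartbeats 1000000 in
theorem semilinear_of_transitive {n : ℕ} (hn : finrank (ZMod p) V = n) (hn3 : 3 ≤ n)
    {L : Type*} [Group L] [Finite L] (hL : Group.IsSolvable L) (ρ : L →* (V ≃ₗ[ZMod p] V))
    (hρ : Function.Injective ρ)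
    (ht : ∀ W W' : Submodule (ZMod p) V, finrank (ZMod p) W = finrank (ZMod p) W' →
      ∃ l, W.map (ρ l).toLinearMap = W') :
    (n = 3 ∨ (n = 5 ∧ p = 2 ∧ 155 ≤ Nat.card L)) ∧
    (p = 2 → n = 3 → Nat.card L = 7 ∨ Nat.card L = 21) ∧
    ∃ e : V ≃+ GaloisField p n, ∀ l, ∃ (a : GaloisField p n) (σ : GaloisField p n ≃+* GaloisField p n),
      a ≠ 0 ∧ ∀ v, e (ρ l v) = a * σ (e v) := by
  classical
  have hp : p.Prime := Fact.out
  haveI : Nontrivial V := nontrivial_of_finrank_pos (R := ZMod p) (by omega)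
  haveI : Finite (V ≃ₗ[ZMod p] V) := Finite.of_injective (fun g => (g : V → V)) DFunLike.coe_injective
  let μ : L × (ZMod p)ˣ →* (V ≃ₗ[ZMod p] V) :=
    { toFun := fun lc => ρ lc.1 * sc lc.2
      map_one' := by show ρ 1 * sc 1 = 1; rw [map_one, map_one, one_mul]
      map_mul' := fun a b => by
        show ρ (a.1 * b.1) * sc (a.2 * b.2) = ρ a.1 * sc a.2 * (ρ b.1 * sc b.2)
        refine LinearEquiv.ext fun v => ?_
        simp only [map_mul, LinearEquiv.mul_apply, sc_apply, map_smul] }
  have hμ : ∀ l c, μ (l, c) = ρ l * sc c := fun _ _ => rfl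
  let M := μ.range
  haveI := hL
  haveI : Group.IsSolvable (L × (ZMod p)ˣ) := inferInstance
  have hMsol : Group.IsSolvable M := solvable_of_surjective μ.rangeRestrict_surjective
  have htM : ∀ v w : V, v ≠ 0 → w ≠ 0 → ∃ g : M, M.subtype g v = w := by
    intro v w hv hw
    obtain ⟨l, hl⟩ := ht (Submodule.span (ZMod p) {v}) (Submodule.span (ZMod p) {w})
      (by rw [finrank_span_singleton hv, finrank_span_singleton hw])
    rw [Submodule.map_span, Set.image_singleton] at hl
    obtain ⟨c, hc⟩ := Submodule.mem_span_singleton.1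
      (hl ▸ Submodule.mem_span_singleton_self w : w ∈ Submodule.span (ZMod p) {ρ l v})
    have hc0 : c ≠ 0 := by
      rintro rfl
      exact hw (by rw [← hc, zero_smul])
    refine ⟨⟨μ (l, Units.mk0 c hc0), (l, Units.mk0 c hc0), rfl⟩, ?_⟩
    show (ρ l * sc (Units.mk0 c hc0) : V ≃ₗ[ZMod p] V) v = w
    rw [LinearEquiv.mul_apply, sc_apply, map_smul]
    exact hc
  have hVcard : Nat.card V = p ^ n := hn ▸ natCard_eq (p := p) (V := V)
  obtain ⟨W0⟩ : Nonempty (Plane p V) := by
    obtain ⟨b⟩ : Nonempty (Basis (Fin n) (ZMod p) V) := ⟨Module.finBasisOfFinrankEq _ _ hn⟩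
    refine ⟨⟨_, finrank_span_pair (x := (b ⟨0, by omega⟩, b ⟨1, by omega⟩)) ⟨b.ne_zero _, fun h => ?_⟩⟩⟩
    obtain ⟨c, hc⟩ := Submodule.mem_span_singleton.1 h
    have := congrArg (fun v => b.repr v ⟨1, by omega⟩) hc
    simp [Basis.repr_self, Finsupp.single_apply] at this
  have hplane := card_planes_mul (p := p) (V := V)
  rw [hn] at hplane
  obtain ⟨S, -, hS⟩ := card_planes_mul_stab ρ W0 fun W => ht _ _ (W0.2.trans W.2.symm)
  obtain ⟨T, hT, hTc⟩ := card_planes_mul_stab M.subtype W0 fun W => by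
    obtain ⟨l, hl⟩ := ht _ _ (W0.2.trans W.2.symm)
    refine ⟨⟨μ (l, 1), (l, 1), rfl⟩, ?_⟩
    show W0.1.map (ρ l * sc 1).toLinearMap = W.1
    rw [map_one, mul_one, hl]
  have hTge : p - 1 ≤ Nat.card T := by
    rw [show p - 1 = Nat.card (ZMod p)ˣ by rw [Nat.card_units, Nat.card_zmod]]
    refine Nat.card_le_card_of_injective
      (fun c : (ZMod p)ˣ => (⟨⟨μ (1, c), (1, c), rfl⟩, hT _ ?_⟩ : T)) fun a b e => ?_
    · show W0.1.map (ρ 1 * sc c).toLinearMap = W0.1
      rw [map_one, one_mul, map_sc]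
    · have e' : ρ 1 * sc a = ρ 1 * sc (V := V) b := congrArg (fun t : T => ((t : M) : V ≃ₗ[ZMod p] V)) e
      obtain ⟨v, hv⟩ := exists_ne (0 : V)
      have := LinearEquiv.congr_fun (mul_left_cancel e') v
      rw [sc_apply, sc_apply] at this
      exact Units.ext (smul_left_injective (ZMod p) hv this)
  -- the field
  rcases S3360.result p hMsol M.subtype M.subtype_injective htM with ⟨F, _, _, e0, he0⟩ | hexc
  swap
  · -- the exceptional module of order 81
    exfalso
    have h81 : p = 3 ∧ n = 4 := by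
      rw [hVcard] at hexc
      simp only [Set.mem_insert_iff, Set.mem_singleton_iff] at hexc
      have hpow : p ^ 3 ≤ p ^ n := Nat.pow_le_pow_right hp.pos hn3
      have hpp : ∀ r k : ℕ, r.Prime → p ^ n = r ^ k → p = r ∧ n = k := by
        intro r k hr hrk
        have hdvd : p ∣ r ^ k := hrk ▸ dvd_pow_self p (by omega)
        obtain rfl := (Nat.prime_dvd_prime_iff_eq hp hr).1 (hp.dvd_of_dvd_pow hdvd)
        exact ⟨rfl, Nat.pow_right_injective hp.two_le hrk⟩
      rcases hexc with e | e | e | e | e | e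
      · have := hpp 3 2 (by norm_num) e; omega
      · have := hpp 5 2 (by norm_num) e; omega
      · have := hpp 7 2 (by norm_num) e; omega
      · have := hpp 11 2 (by norm_num) e; omega
      · have := hpp 23 2 (by norm_num) e; omega
      · exact hpp 3 4 (by norm_num) e
    obtain ⟨rfl, rfl⟩ := h81
    norm_num at hplane
    have hN : Nat.card (Plane 3 V) = 130 := by omega
    refine no_five_thirteen (by rw [hVcard]; norm_num) M hMsol ?_ ?_
    · exact (show 5 ∣ 130 by norm_num).trans (hN ▸ Dvd.intro _ hTc)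
    · exact (show 13 ∣ 130 by norm_num).trans (hN ▸ Dvd.intro _ hTc)
  have hFcard : Fintype.card F = p ^ n := by
    rw [← Nat.card_eq_fintype_card, ← Nat.card_congr e0.toEquiv, hVcard]
  letI : Fintype (GaloisField p n) := Fintype.ofFinite _
  let r : F ≃+* GaloisField p n := FiniteField.ringEquivOfCardEq (by
    rw [hFcard, ← Nat.card_eq_fintype_card, GaloisField.card p n (by omega)])
  let e : V ≃+ GaloisField p n := e0.trans r.toAddEquiv
  have hsl : ∀ g : M, ∃ (a : GaloisField p n) (σ : GaloisField p n ≃+* GaloisField p n),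
      a ≠ 0 ∧ ∀ v, e ((g : V ≃ₗ[ZMod p] V) v) = a * σ (e v) := by
    intro g
    obtain ⟨a, σ, hσ⟩ := he0 g
    refine ⟨r a, (r.symm.trans σ).trans r, fun h0 => ?_, fun v => ?_⟩
    · obtain ⟨v, hv⟩ := exists_ne (0 : V)
      have ha : a = 0 := r.injective (h0.trans (map_zero r).symm)
      have := hσ v
      rw [ha, zero_mul] at this
      exact hv ((LinearEquiv.map_eq_zero_iff _).1 (e0.injective (this.trans (map_zero e0).symm)))
    · show r (e0 _) = r a * r (σ (r.symm (r (e0 v))))
      rw [RingEquiv.symm_apply_apply, ← map_mul]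
      exact congrArg r (hσ v)
  -- order bound
  let θ : M →* gammaL (GaloisField p n) :=
    { toFun := fun g => ⟨(e.symm.toEquiv.trans (g : V ≃ₗ[ZMod p] V).toEquiv).trans e.toEquiv, by
        obtain ⟨a, σ, ha, hσ⟩ := hsl g
        refine ⟨⟨Units.mk0 a ha, 0, σ, fun x => ?_⟩, MulAction.mem_stabilizer_iff.2 ?_⟩
        · show e ((g : V ≃ₗ[ZMod p] V) (e.symm x)) = a * σ x + 0
          rw [hσ, AddEquiv.apply_symm_apply, add_zero]
        · show e ((g : V ≃ₗ[ZMod p] V) (e.symm 0)) = 0
          rw [map_zero, map_zero, map_zero]⟩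
      map_one' := Subtype.ext (Equiv.ext fun x => by
        show e (e.symm x) = x
        exact e.apply_symm_apply x)
      map_mul' := fun g g' => Subtype.ext (Equiv.ext fun x => by
        show e ((g : V ≃ₗ[ZMod p] V) ((g' : V ≃ₗ[ZMod p] V) (e.symm x))) =
          e ((g : V ≃ₗ[ZMod p] V) (e.symm (e ((g' : V ≃ₗ[ZMod p] V) (e.symm x)))))
        rw [AddEquiv.symm_apply_apply]) }
  have hθ : Function.Injective θ := fun g g' hgg => Subtype.ext (LinearEquiv.ext fun v => by
    have := congrArg (fun t : gammaL (GaloisField p n) => (t : Equiv.Perm (GaloisField p n)) (e v)) hgg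
    change e ((g : V ≃ₗ[ZMod p] V) (e.symm (e v))) = e ((g' : V ≃ₗ[ZMod p] V) (e.symm (e v))) at this
    rw [AddEquiv.symm_apply_apply] at this
    exact e.injective this)
  have hMd : Nat.card M ∣ (p ^ n - 1) * n := by
    have h0 := Subgroup.card_dvd_of_injective θ hθ
    rw [card_gammaL_le (p := p) (n := n) (by omega)] at h0
    exact h0
  let j : L →* M := μ.rangeRestrict.comp (MonoidHom.inl L (ZMod p)ˣ)
  have hj : ∀ l, (j l : V ≃ₗ[ZMod p] V) = ρ l := fun l => by
    show ρ l * sc 1 = ρ l
    rw [map_one, mul_one]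
  have hjinj : Function.Injective j := fun a b e' => hρ (by rw [← hj a, ← hj b, e'])
  have hLd : Nat.card L ∣ (p ^ n - 1) * n := (Subgroup.card_dvd_of_injective j hjinj).trans hMd
  set N2 := Nat.card (Plane p V) with hN2
  have hN2M : N2 * (p - 1) ≤ (p ^ n - 1) * n := by
    refine le_trans (Nat.mul_le_mul_left N2 hTge) (hTc ▸ Nat.le_of_dvd ?_ hMd)
    exact Nat.mul_pos (Nat.sub_pos_of_lt (Nat.one_lt_pow (by omega) hp.one_lt)) (by omega)
  have hN2d : N2 ∣ (p ^ n - 1) * n := (Dvd.intro _ hS).trans hLd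
  refine ⟨?_, ?_, e, fun l => by
    obtain ⟨a, σ, ha, hσ⟩ := hsl (j l)
    exact ⟨a, σ, ha, fun v => hj l ▸ hσ v⟩⟩
  · have hn' : n = 3 ∨ n = 4 ∨ 5 ≤ n := by omega
    have hp2 := hp.two_le
    have hpos : 0 < p ^ n - 1 := Nat.sub_pos_of_lt (Nat.one_lt_pow (by omega) hp.one_lt)
    -- p^(n-1) - 1 ≤ n (p² - 1)
    have hkey : p ^ (n - 1) - 1 ≤ n * (p ^ 2 - 1) := by
      have h1 : N2 * (p - 1) * ((p + 1) * (p ^ 2 - p)) ≤ (p ^ n - 1) * n * ((p + 1) * (p ^ 2 - p)) :=
        Nat.mul_le_mul_right _ hN2M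
      have h2 : N2 * (p - 1) * ((p + 1) * (p ^ 2 - p)) = (p ^ n - 1) * (p ^ n - p) := by
        rw [← hplane, show p ^ 2 - 1 = (p - 1) * (p + 1) by
          rw [mul_comm, ← Nat.sq_sub_sq, one_pow]]
        ring
      rw [h2, mul_assoc] at h1
      have h3 := Nat.le_of_mul_le_mul_left h1 hpos
      have e1 : p ^ n - p = p * (p ^ (n - 1) - 1) := by
        rw [Nat.mul_sub, mul_one, ← pow_succ', show n - 1 + 1 = n by omega]
      have e2 : (p + 1) * (p ^ 2 - p) = p * (p ^ 2 - 1) := by
        rw [show p ^ 2 - p = p * (p - 1) by rw [Nat.mul_sub, mul_one, sq],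
          show p ^ 2 - 1 = (p + 1) * (p - 1) by rw [← Nat.sq_sub_sq, one_pow]]
        ring
      rw [e1, e2, ← mul_assoc n, mul_comm n p, mul_assoc p] at h3
      exact Nat.le_of_mul_le_mul_left h3 hp.pos
    rcases hn' with h' | rfl | h'
    · exact Or.inl h'
    · exfalso
      have hp3 : p ≤ 3 := by
        by_contra hh
        have h4 : 4 * p ^ 2 ≤ p ^ (4 - 1) := by
          calc 4 * p ^ 2 ≤ p * p ^ 2 := Nat.mul_le_mul_right _ (by omega)
            _ = p ^ (4 - 1) := by ring
        have : 0 < p ^ 2 := pow_pos hp.pos 2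
        omega
      rcases (show p = 2 ∨ p = 3 by omega) with h | h <;> subst h
      · norm_num at hplane hN2d
        have : N2 = 35 := by omega
        rw [this] at hN2d
        norm_num at hN2d
      · norm_num at hplane hN2d
        have : N2 = 130 := by omega
        rw [this] at hN2d
        norm_num at hN2d
    · obtain ⟨rfl, rfl⟩ := arith hp h' hkey
      norm_num at hplane
      have : N2 = 155 := by omega
      exact Or.inr ⟨rfl, rfl, this ▸ Nat.le_of_dvd Nat.card_pos (Dvd.intro _ hS)⟩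
  · intro h2 h3
    subst h2 h3
    norm_num at hplane
    have hN : N2 = 7 := by omega
    norm_num at hLd
    have h7 : 7 ∣ Nat.card L := hN ▸ Dvd.intro _ hS
    have : Nat.card L ≤ 21 := Nat.le_of_dvd (by norm_num) hLd
    obtain ⟨k, hk⟩ := h7
    have hk3 : k ≤ 3 := by omega
    have hpos := Nat.card_pos (α := L)
    rcases (show k = 0 ∨ k = 1 ∨ k = 2 ∨ k = 3 by omega) with h | h | h | h <;> subst h <;>
      rw [hk] at hLd ⊢ <;> omega

end Cfsg.Agent.Lib.SubspaceTrans
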